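import Mathlib
import Cfsg.Prelude.Def_OddOrderLocal
import Cfsg.Agent.S1448
import Cfsg.Agent.Lib.Helper9.BG.S1411Core

/-!
Bender–Glauberman Corollary 10.7(b) (helper9): a Sylow `p`-subgroup of rank at most 2 of a minimal
simple group of odd order is abelian or a central product of an extraspecial group of order `p ^ 3`
and exponent `p` with a cyclic group.  From Corollary 10.7(a) (`s1411_core`) and Blackburn's
theorem S1448.
-/

set_option autoImplicit false
set_option linter.unusedSectionVars false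
set_option linter.style.haveILetI false

namespace Cfsg.Agent.Lib.Helper9.BG

open Cfsg
open scoped commutatorElement

/-- In a nonabelian group of order `p ^ 3` the centre equals the derived subgroup. -/
theorem center_eq_commutator_of_card_cube {X : Type*} [Group X] [Finite X] {p : ℕ}
    [hp : Fact p.Prime] (hcard : Nat.card X = p ^ 3) (hnc : ¬ IsMulCommutative X) :
    Subgroup.center X = commutator X := by
  classical
  have hX : IsPGroup p X := IsPGroup.of_card hcard
  haveI : Nontrivial X := by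
    rw [← Finite.one_lt_card_iff_nontrivial, hcard]
    exact Nat.one_lt_pow (by norm_num) hp.out.one_lt
  have hZnt : Nontrivial (Subgroup.center X) := hX.center_nontrivial
  have hZdvd : Nat.card (Subgroup.center X) ∣ p ^ 3 := by
    rw [← hcard]
    exact Subgroup.card_subgroup_dvd_card _
  obtain ⟨m, hm, hZc⟩ := (Nat.dvd_prime_pow hp.out).mp hZdvd
  have hidx : Nat.card (Subgroup.center X) * (Subgroup.center X).index = p ^ 3 := by
    rw [Subgroup.card_mul_index, hcard]
  have hppos : 0 < p := hp.out.pos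
  have hnotcyc : ¬ IsCyclic (X ⧸ Subgroup.center X) := by
    intro hc
    apply hnc
    exact MonoidHom.isMulCommutative_of_isCyclic_of_ker_le_center
      (QuotientGroup.mk' (Subgroup.center X)) (by rw [QuotientGroup.ker_mk'])
  interval_cases m
  · exfalso
    rw [pow_zero] at hZc
    exact (Subgroup.nontrivial_iff_ne_bot _).mp hZnt (Subgroup.eq_bot_of_card_eq _ hZc)
  · rw [pow_one] at hZc
    have hi : (Subgroup.center X).index = p ^ 2 := by
      rw [hZc] at hidx
      have h1 : p * (Subgroup.center X).index = p * p ^ 2 := by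
        rw [hidx]
        ring
      exact Nat.eq_of_mul_eq_mul_left hppos h1
    have hq : Nat.card (X ⧸ Subgroup.center X) = p ^ 2 := by
      rw [← Subgroup.index_eq_card]
      exact hi
    have hqc : IsMulCommutative (X ⧸ Subgroup.center X) :=
      IsPGroup.isMulCommutative_of_card_eq_prime_sq hq
    have hle : commutator X ≤ Subgroup.center X :=
      Subgroup.Normal.quotient_commutative_iff_commutator_le.mp hqc
    have hne : commutator X ≠ ⊥ := by
      intro h
      apply hnc
      refine ⟨⟨fun a b => ?_⟩⟩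
      have h1 : ⁅a, b⁆ ∈ commutator X := by
        rw [_root_.commutator_def]
        exact Subgroup.commutator_mem_commutator (Subgroup.mem_top a) (Subgroup.mem_top b)
      rw [h, Subgroup.mem_bot] at h1
      exact commutatorElement_eq_one_iff_mul_comm.mp h1
    have hcd : Nat.card (commutator X) ∣ p := by
      rw [← hZc]
      exact Subgroup.card_dvd_of_le hle
    rcases (Nat.dvd_prime hp.out).mp hcd with h1 | h1
    · exact absurd (Subgroup.eq_bot_of_card_eq _ h1) hne
    · exact (Subgroup.eq_of_le_of_card_ge hle (by rw [hZc, h1])).symm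
  · exfalso
    have hi : (Subgroup.center X).index = p := by
      rw [hZc] at hidx
      have h1 : p ^ 2 * (Subgroup.center X).index = p ^ 2 * p := by
        rw [hidx]
        ring
      exact Nat.eq_of_mul_eq_mul_left (pow_pos hppos 2) h1
    have hq : Nat.card (X ⧸ Subgroup.center X) = p := by
      rw [← Subgroup.index_eq_card]
      exact hi
    exact hnotcyc (isCyclic_of_prime_card hq)
  · exfalso
    have htop : Subgroup.center X = ⊤ := Subgroup.eq_top_of_card_eq _ (by rw [hZc, hcard])
    apply hnc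
    refine ⟨⟨fun a b => ?_⟩⟩
    have ha : a ∈ Subgroup.center X := by
      rw [htop]
      exact Subgroup.mem_top a
    exact ((Subgroup.mem_center_iff.mp ha) b).symm

/-- Subgroup form: for a nonabelian subgroup `R` of order `p ^ 3`, `[R, R] = Z(R)`. -/
theorem commutator_eq_inf_centralizer_of_card_cube {G : Type*} [Group G] [Finite G] {p : ℕ}
    [Fact p.Prime] (R : Subgroup G) (hcard : Nat.card R = p ^ 3) (hnc : ¬ IsMulCommutative R) :
    ⁅R, R⁆ = R ⊓ Subgroup.centralizer (R : Set G) := by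
  have h := center_eq_commutator_of_card_cube hcard hnc
  rw [← Subgroup.map_subtype_commutator, ← h]
  ext x
  constructor
  · rintro ⟨z, hz, rfl⟩
    refine ⟨z.2, Subgroup.mem_centralizer_iff.mpr ?_⟩
    intro y hy
    have h1 := (Subgroup.mem_center_iff.mp hz) ⟨y, hy⟩
    exact congrArg Subtype.val h1
  · rintro ⟨hxR, hxc⟩
    refine ⟨⟨x, hxR⟩, Subgroup.mem_center_iff.mpr ?_, rfl⟩
    intro g
    exact Subtype.ext ((Subgroup.mem_centralizer_iff.mp hxc) g g.2)

/-- Schur–Zassenhaus for a Sylow subgroup normal in `N`, in the `IsComplIn` form. -/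
theorem exists_isComplIn_of_normal_sylow {G : Type*} [Group G] [Finite G] {p : ℕ}
    [hp : Fact p.Prime] (P : Sylow p G) (N : Subgroup G) (hPN : (P : Subgroup G) ≤ N)
    (hn : ((P : Subgroup G).subgroupOf N).Normal) :
    ∃ V : Subgroup G, Cfsg.IsComplIn (P : Subgroup G) V N ∧ (Nat.card V).Coprime p := by
  classical
  haveI := hn
  have hnd : ¬ p ∣ ((P : Subgroup G).subgroupOf N).index := fun h =>
    P.not_dvd_index (h.trans (Subgroup.relIndex_dvd_index_of_le hPN))
  obtain ⟨k, hk⟩ := (IsPGroup.iff_card).mp (P.2.comap_subtype (K := N))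
  have hcop : (Nat.card ((P : Subgroup G).subgroupOf N)).Coprime
      ((P : Subgroup G).subgroupOf N).index := by
    have hk' : Nat.card ((P : Subgroup G).subgroupOf N) = p ^ k := hk
    rw [hk']
    exact Nat.Coprime.pow_left k ((Nat.Prime.coprime_iff_not_dvd hp.out).mpr hnd)
  obtain ⟨H, hH⟩ := Subgroup.exists_right_complement'_of_coprime hcop
  refine ⟨H.map N.subtype, ⟨hPN, Subgroup.map_subtype_le H, ?_, ?_⟩, ?_⟩
  · rw [Subgroup.eq_bot_iff_forall]
    rintro x ⟨hxP, ⟨h, hhH, rfl⟩⟩
    have h1 : h ∈ (P : Subgroup G).subgroupOf N ⊓ H := ⟨hxP, hhH⟩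
    rw [disjoint_iff.mp hH.disjoint, Subgroup.mem_bot] at h1
    rw [h1, map_one]
  · intro n hn'
    obtain ⟨⟨a, b⟩, hab⟩ := hH.2 ⟨n, hn'⟩
    refine ⟨((a : N) : G), a.2, ((b : N) : G), ⟨(b : N), b.2, rfl⟩, ?_⟩
    have h1 := congrArg Subtype.val hab
    exact h1.symm
  · rw [Subgroup.card_map_of_injective (Subgroup.subtype_injective N), ← hH.symm.index_eq_card]
    exact ((Nat.Prime.coprime_iff_not_dvd hp.out).mpr hnd).symm

/-- BG Corollary 10.7(b) from Lemma 10.1(a), Theorem 10.6 and Blackburn's theorem S1448. -/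
theorem s1412_core {G : Type*} [Group G] [Finite G] (hG : Cfsg.IsMinSimpleOddOrder G)
    (h1404 : ∀ (M : Subgroup G), IsCoatom M → ∀ (p : ℕ) [Fact p.Prime], p ∈ Cfsg.sigma M →
      ∀ X : Subgroup G, IsPGroup p X → X ≠ ⊥ → X ≤ M →
      ∀ g : G, X.map (MulAut.conj g).toMonoidHom ≤ M →
        ∃ m ∈ M, ∃ c ∈ Subgroup.centralizer (X : Set G), g = m * c)
    (h1410 : ∀ (p : ℕ) [Fact p.Prime] (H : Subgroup G), H ≠ ⊤ → Cfsg.PLengthLE p 1 H)
    (p : ℕ) [hp : Fact p.Prime] (P : Sylow p G) (hr : Cfsg.PRankLE p 2 (P : Subgroup G)) :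
    IsMulCommutative (P : Subgroup G) ∨ ∃ P₁ P₂ : Subgroup G, P₁ ⊔ P₂ = (P : Subgroup G) ∧
      (∀ a ∈ P₁, ∀ b ∈ P₂, a * b = b * a) ∧
        ¬ IsMulCommutative P₁ ∧ Nat.card P₁ = p ^ 3 ∧ Monoid.exponent P₁ = p ∧ IsCyclic P₂ ∧
        Subgroup.closure {x : G | x ∈ P₂ ∧ x ^ p = 1} =
          P₁ ⊓ Subgroup.centralizer (P₁ : Set G) := by
  classical
  by_cases hP1 : (P : Subgroup G) = ⊥
  · left
    refine ⟨⟨fun a b => ?_⟩⟩
    have ha : (a : G) = 1 := Subgroup.mem_bot.mp (hP1.le a.2)
    have hb : (b : G) = 1 := Subgroup.mem_bot.mp (hP1.le b.2)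
    apply Subtype.ext
    show (a : G) * (b : G) = (b : G) * (a : G)
    rw [ha, hb]
  have hcardP : p ∣ Nat.card (P : Subgroup G) := by
    rcases P.2.card_eq_or_dvd with h | h
    · exact absurd (Subgroup.eq_bot_of_card_eq _ h) hP1
    · exact h
  have hp2 : p ≠ 2 := by
    intro h2
    have h3 : 2 ∣ Nat.card G := by
      rw [← h2]
      exact hcardP.trans (Subgroup.card_subgroup_dvd_card _)
    exact (Nat.not_even_iff_odd.mpr hG.1) (even_iff_two_dvd.mpr h3)
  obtain ⟨V, hV, hVcop⟩ := exists_isComplIn_of_normal_sylow P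
    (Subgroup.normalizer ((P : Subgroup G) : Set G)) Subgroup.le_normalizer
    Subgroup.normal_in_normalizer
  have h11 := s1411_core hG h1404 h1410 p P V hV
  have hVodd : Odd (Nat.card V) := hG.1.of_dvd_nat (Subgroup.card_subgroup_dvd_card V)
  obtain ⟨-, h48⟩ := Cfsg.Agent.S1448.result p hp2 (P : Subgroup G) V P.2 hP1 hr hV.2.1 hVcop
    hVodd h11.1.symm
  rcases h48 with hc | ⟨R₁, R₂, hsup, hcomm, hnc, hcard, hexp, hcyc, hcl⟩
  · exact Or.inl hc
  · exact Or.inr ⟨R₁, R₂, hsup, hcomm, hnc, hcard, hexp, hcyc,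
      hcl.trans (commutator_eq_inf_centralizer_of_card_cube R₁ hcard hnc)⟩

end Cfsg.Agent.Lib.Helper9.BG
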